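import Groth.Agent.ProperConn.Flat
import Groth.Agent.ProperConn.GeomConn
import Groth.Agent.S2501
import Groth.Agent.S7603
import Groth.Agent.S9791
import Groth.Agent.GrpdLib.SepDense
import Groth.Agent.FBase.BC
import Groth.Agent.S17018

/-!
Curves over a discrete valuation ring with connected reduced special fibre over an algebraically
closed residue field: the generic fibre is geometrically integral, and the local rings stay domains
over the algebraic closure of the fraction field.
-/

set_option autoImplicit false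
set_option maxHeartbeats 800000
universe u

open CategoryTheory CategoryTheory.Limits AlgebraicGeometry
open scoped TensorProduct

namespace Groth.Agent.ModelsGI95

theorem geometricallyIntegral_generic
    (R : Type u) [CommRing R] [IsDomain R] [IsDiscreteValuationRing R]
    [IsAlgClosed (IsLocalRing.ResidueField R)]
    {X : Scheme.{u}} (f : X ⟶ Spec (CommRingCat.of R)) [IsProper f] [Flat f]
    {XK : Scheme.{u}} (gK : XK ⟶ X) (fK : XK ⟶ Spec (CommRingCat.of (FractionRing R)))
    (hK : IsPullback gK fK f (Spec.map (CommRingCat.ofHom (algebraMap R (FractionRing R)))))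
    [Smooth fK]
    {Xs : Scheme.{u}} (gs : Xs ⟶ X) (fs : Xs ⟶ Spec (CommRingCat.of (IsLocalRing.ResidueField R)))
    (hs : IsPullback gs fs f (Spec.map (CommRingCat.ofHom (IsLocalRing.residue R))))
    [ConnectedSpace Xs] [IsReduced Xs] :
    GeometricallyIntegral fK := by
  haveI : IsProper fK := MorphismProperty.of_isPullback hK ‹_›
  haveI : IsProper fs := MorphismProperty.of_isPullback hs ‹_›
  set ν := Spec.map (CommRingCat.ofHom (IsLocalRing.residue R)) with hν
  let p₀ : Spec (CommRingCat.of (IsLocalRing.ResidueField R)) :=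
    IsLocalRing.closedPoint (IsLocalRing.ResidueField R)
  let s : Spec (CommRingCat.of R) := IsLocalRing.closedPoint R
  have hp₀ : ν p₀ = s := IsLocalRing.comap_closedPoint (IsLocalRing.residue R)
  haveI : GeometricallyReduced fs := FBase.BC.geometricallyReduced_of_isReduced_of_perfectField fs
  have hred : GeometricallyReduced (f.fiberToSpecResidueField s) := by
    refine (ProperConn.geometricallyReduced_fibre_iff f s).2 fun x hx => ?_
    obtain ⟨y, hy, -⟩ := Scheme.exists_preimage_of_isPullback hs x p₀ (hx.trans hp₀.symm)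
    rw [← hy]
    exact SecComp.isGeomReducedAt_descend hs y ((ProperConn.geometricallyReduced_fibre_iff fs (fs y)).1
      inferInstance y rfl)
  haveI := S2501.result fs
  have hn : MoreMor.nGeomConnComp f s = 1 := by
    rw [← hp₀, ← (Wt.GenFib.nGeom_baseChange hs p₀).2]
    exact (ProperConn.geometricallyConnected_iff_nGeom fs).1 inferInstance p₀
  have hev := ProperConn.eventually_eq_of_flat f s hred
  obtain ⟨U, hU, hUo, hsU⟩ := mem_nhds_iff.1 hev
  have hUtop : U = Set.univ :=
    Set.eq_univ_of_forall fun z => (IsLocalRing.specializes_closedPoint z).mem_open hUo hsU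
  haveI : GeometricallyConnected fK :=
    (ProperConn.geometricallyConnected_iff_nGeom fK).2 fun z => by
      rw [(Wt.GenFib.nGeom_baseChange hK z).2, hU (hUtop ▸ Set.mem_univ _), hn]
  haveI : GeometricallyReduced fK := GrpdLib.SepDense.geometricallyReduced_of_smooth fK
  letI : XK.Over (Spec (CommRingCat.of (FractionRing R))) := ⟨fK⟩
  haveI : IsProper (XK ↘ Spec (CommRingCat.of (FractionRing R))) := ‹IsProper fK›
  haveI : GeometricallyIrreducible fK := by
    refine (S7603.result (FractionRing R) XK fun L _ _ => ?_).1 ‹GeometricallyConnected fK›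
    haveI : Smooth (Curv2.bcSnd (FractionRing R) XK L) :=
      inferInstanceAs (Smooth (pullback.snd fK _))
    exact S9791.isNormalScheme_of_smooth_field (Curv2.bcSnd (FractionRing R) XK L)
  exact GeometricallyIntegral.of_geometricallyReduced_of_geometricallyIrreducible fK

theorem isDomain_tensor
    (R : Type u) [CommRing R] [IsDomain R] [IsDiscreteValuationRing R]
    [IsAlgClosed (IsLocalRing.ResidueField R)]
    {X : Scheme.{u}} (f : X ⟶ Spec (CommRingCat.of R)) [IsProper f] [Flat f]
    {XK : Scheme.{u}} (gK : XK ⟶ X) (fK : XK ⟶ Spec (CommRingCat.of (FractionRing R)))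
    (hK : IsPullback gK fK f (Spec.map (CommRingCat.ofHom (algebraMap R (FractionRing R)))))
    [GeometricallyIntegral fK]
    (x : X) (B : Type u) [CommRing B] [IsDomain B] [Algebra R B] [Module.Flat R B]
    (hinj : Function.Injective (algebraMap R B))
    (e : X.presheaf.stalk x ≅ CommRingCat.of B)
    (he : e.hom.hom.comp ((X.presheaf.germ ⊤ x trivial).hom.comp (Coh.toGlobal f)) = algebraMap R B) :
    IsDomain (B ⊗[R] AlgebraicClosure (FractionRing R)) := by
  let F := AlgebraicClosure (FractionRing R)
  haveI : Module.Flat R (FractionRing R) := IsLocalization.flat _ (nonZeroDivisors R)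
  haveI : Module.Flat R F := Module.Flat.trans R (FractionRing R) F
  have hRF : Function.Injective (algebraMap R F) := by
    rw [IsScalarTower.algebraMap_eq R (FractionRing R) F]
    exact (algebraMap (FractionRing R) F).injective.comp (IsFractionRing.injective R (FractionRing R))
  obtain ⟨U, hU, hxU, -⟩ := exists_isAffineOpen_mem_and_subset (x := x) (U := ⊤) trivial
  let A := Γ(X, U)
  obtain ⟨φ, hφ⟩ := Spec.map_surjective (hU.fromSpec ≫ f)
  letI : Algebra R A := φ.hom.toAlgebra
  haveI : Flat (Spec.map φ) := hφ ▸ inferInstance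
  haveI hAflat : Module.Flat R A := (HasRingHomProperty.Spec_iff (P := @Flat)).1 ‹Flat (Spec.map φ)›
  let germ : A →+* B := e.hom.hom.comp (X.presheaf.germ U x hxU).hom
  have hgerm : ∀ r, germ (algebraMap R A r) = algebraMap R B r := by
    intro r
    have h1 : φ = (Scheme.ΓSpecIso (CommRingCat.of R)).inv ≫ f.appTop ≫
        X.presheaf.map (homOfLE le_top).op := by
      apply Spec.map_injective
      rw [hφ, Spec.map_comp, Spec.map_comp, ← cancel_epi hU.isoSpec.hom]
      simp only [Category.assoc, hU.isoSpec_hom, hU.toSpecΓ_fromSpec_assoc]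
      rw [Scheme.Opens.toSpecΓ_SpecMap_presheaf_map_top_assoc, ← Scheme.toSpecΓ_naturality_assoc,
        toSpecΓ_SpecMap_ΓSpecIso_inv, Category.comp_id]
    rw [← he]
    show e.hom.hom ((X.presheaf.germ U x hxU).hom (φ.hom r)) = _
    rw [h1]
    show e.hom.hom (((X.presheaf.map (homOfLE le_top).op) ≫ X.presheaf.germ U x hxU).hom (f.appTop.hom _)) = _
    rw [TopCat.Presheaf.germ_res]
    rfl
  letI : Algebra A B := germ.toAlgebra
  haveI : IsScalarTower R A B := IsScalarTower.of_algebraMap_eq fun r => (hgerm r).symm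
  let P := (hU.primeIdealOf ⟨x, hxU⟩).asIdeal
  haveI : IsLocalization P.primeCompl B := by
    letI := TopCat.Presheaf.algebra_section_stalk X.presheaf (⟨x, hxU⟩ : U)
    have := hU.isLocalization_stalk ⟨x, hxU⟩
    exact IsLocalization.isLocalization_of_algEquiv P.primeCompl (AlgEquiv.ofRingEquiv
      (f := e.commRingCatIsoToRingEquiv) fun _ => rfl)
  let ψ : A ⊗[R] F →ₐ[R] B ⊗[R] F :=
    Algebra.TensorProduct.map (IsScalarTower.toAlgHom R A B) (AlgHom.id R F)
  have hBi : Function.Injective (Algebra.TensorProduct.includeLeft : B →ₐ[R] B ⊗[R] F) :=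
    Algebra.TensorProduct.includeLeft_injective hRF
  haveI : Nontrivial (B ⊗[R] F) := hBi.nontrivial
  haveI : Nontrivial (A ⊗[R] F) := ψ.toRingHom.domain_nontrivial
  haveI hdom : IsDomain (A ⊗[R] F) := by
    let νF : Spec (CommRingCat.of F) ⟶ Spec (CommRingCat.of (FractionRing R)) :=
      Spec.map (CommRingCat.ofHom (algebraMap (FractionRing R) F))
    let ν : Spec (CommRingCat.of F) ⟶ Spec (CommRingCat.of R) :=
      Spec.map (CommRingCat.ofHom (algebraMap R F))
    have hν : ν = νF ≫ Spec.map (CommRingCat.ofHom (algebraMap R (FractionRing R))) := by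
      rw [← Spec.map_comp]; rfl
    have hpb := (IsPullback.of_hasPullback fK νF).paste_horiz hK
    rw [← hν] at hpb
    haveI : IsIntegral (pullback fK νF) :=
      GeometricallyIntegral.geometrically_isIntegral _ _ _ (IsPullback.of_hasPullback fK νF)
    let j : Spec (CommRingCat.of (A ⊗[R] F)) ⟶ pullback fK νF :=
      (pullbackSpecIso R A F).inv ≫ (pullback.congrHom (f₂ := hU.fromSpec ≫ f) (g₂ := ν) hφ rfl).hom ≫
        (pullbackRightPullbackFstIso f ν hU.fromSpec).inv ≫
        pullback.snd hU.fromSpec (pullback.fst f ν) ≫ hpb.isoPullback.inv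
    haveI : Nonempty (Spec (CommRingCat.of (A ⊗[R] F))) :=
      inferInstanceAs (Nonempty (PrimeSpectrum (A ⊗[R] F)))
    haveI := isIntegral_of_isOpenImmersion j
    exact (affine_isIntegral_iff (CommRingCat.of (A ⊗[R] F))).1 inferInstance
  have hAi : Function.Injective (Algebra.TensorProduct.includeLeft : A →ₐ[R] A ⊗[R] F) :=
    Algebra.TensorProduct.includeLeft_injective hRF
  haveI : IsDomain A := hAi.isDomain (Algebra.TensorProduct.includeLeft : A →ₐ[R] A ⊗[R] F)
  have hAB : Function.Injective (algebraMap A B) :=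
    IsLocalization.injective B (P.primeCompl_le_nonZeroDivisors)
  have hψ : Function.Injective ψ :=
    Module.Flat.rTensor_preserves_injective_linearMap (IsScalarTower.toAlgHom R A B).toLinearMap hAB
  have key : ∀ z : B ⊗[R] F, ∃ s ∈ P.primeCompl, ∃ a, ψ a = (algebraMap A B s ⊗ₜ[R] (1 : F)) * z := by
    intro z
    induction z using TensorProduct.induction_on with
    | zero => exact ⟨1, one_mem _, 0, by simp⟩
    | tmul b c =>
      obtain ⟨⟨a, s⟩, hs⟩ := IsLocalization.surj P.primeCompl b
      refine ⟨s, s.2, a ⊗ₜ[R] c, ?_⟩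
      simp only [ψ, Algebra.TensorProduct.map_tmul, AlgHom.coe_id, id_eq, IsScalarTower.coe_toAlgHom',
        Algebra.TensorProduct.tmul_mul_tmul, one_mul]
      rw [← hs, mul_comm]
    | add z w hz hw =>
      obtain ⟨s, hs, a, ha⟩ := hz
      obtain ⟨t, ht, b, hb⟩ := hw
      refine ⟨s * t, mul_mem hs ht, (t ⊗ₜ[R] (1 : F)) * a + (s ⊗ₜ[R] (1 : F)) * b, ?_⟩
      rw [map_add, map_mul, map_mul, ha, hb]
      simp only [ψ, Algebra.TensorProduct.map_tmul, AlgHom.coe_id, id_eq, IsScalarTower.coe_toAlgHom']
      rw [map_mul, ← one_mul (1 : F), ← Algebra.TensorProduct.tmul_mul_tmul, one_mul]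
      ring
  haveI : NoZeroDivisors (B ⊗[R] F) := ⟨fun {z w} hzw => by
    obtain ⟨s, hs, a, ha⟩ := key z
    obtain ⟨t, ht, b, hb⟩ := key w
    have hu : ∀ s ∈ P.primeCompl, IsUnit (algebraMap A B s ⊗ₜ[R] (1 : F)) := fun s hs =>
      (IsLocalization.map_units B (⟨s, hs⟩ : P.primeCompl)).map
        (Algebra.TensorProduct.includeLeft : B →ₐ[R] B ⊗[R] F)
    have h0 : ψ (a * b) = 0 := by
      rw [map_mul, ha, hb, mul_mul_mul_comm, hzw, mul_zero]
    rcases mul_eq_zero.1 (hψ (h0.trans (map_zero ψ).symm)) with h | h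
    · refine Or.inl ((hu s hs).mul_right_eq_zero.1 ?_)
      rw [← ha, h, map_zero]
    · refine Or.inr ((hu t ht).mul_right_eq_zero.1 ?_)
      rw [← hb, h, map_zero]⟩
  exact NoZeroDivisors.to_isDomain _

end Groth.Agent.ModelsGI95
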