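import Groth.Agent.ModelsGI95.Field
import Mathlib.RingTheory.PrincipalIdealDomainOfPrime

/-!
Base change of the local ring at a component of the special fibre along a generically finite
extension of discrete valuation rings is a discrete valuation ring.
-/

set_option autoImplicit false
set_option linter.style.haveILetI false
universe u

open scoped TensorProduct

namespace Groth.Agent.ModelsGI95

variable (R : Type u) [CommRing R] [IsDomain R] [IsDiscreteValuationRing R]
  (B : Type u) [CommRing B] [IsDomain B] [IsDiscreteValuationRing B] [Algebra R B]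
  (R' : Type u) [CommRing R'] [IsDomain R'] [IsDiscreteValuationRing R'] [Algebra R R']

theorem isAlgebraic_of_finite (hinj : Function.Injective (algebraMap R R'))
    [Module.Finite (FractionRing R) (FractionRing R ⊗[R] R')] : Algebra.IsAlgebraic R R' := by
  haveI : Module.IsTorsionFree R R' := Module.isTorsionFree_iff_algebraMap_injective.2 hinj
  refine ⟨fun x => ?_⟩
  have h1 : IsAlgebraic (FractionRing R) ((1 : FractionRing R) ⊗ₜ[R] x) :=
    (IsIntegral.of_finite (FractionRing R) _).isAlgebraic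
  have h2 : IsAlgebraic R ((1 : FractionRing R) ⊗ₜ[R] x) :=
    (IsFractionRing.isAlgebraic_iff R (FractionRing R) _).2 h1
  exact (isAlgebraic_algHom_iff (Algebra.TensorProduct.includeRight : R' →ₐ[R] FractionRing R ⊗[R] R')
    (Algebra.TensorProduct.includeRight_injective (IsFractionRing.injective R (FractionRing R)))).1 h2

theorem residue_surjective [IsLocalHom (algebraMap R R')] [IsAlgClosed (IsLocalRing.ResidueField R)]
    [Algebra.IsAlgebraic R R'] (hinj : Function.Injective (algebraMap R R')) :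
    Function.Surjective (IsLocalRing.ResidueField.map (algebraMap R R')) := by
  let k := IsLocalRing.ResidueField R
  let k' := IsLocalRing.ResidueField R'
  let ι : k →+* k' := IsLocalRing.ResidueField.map (algebraMap R R')
  letI : Algebra k k' := ι.toAlgebra
  obtain ⟨π, hπ⟩ := IsDiscreteValuationRing.exists_irreducible R
  have halg : Algebra.IsAlgebraic k k' := ⟨fun y => by
    obtain ⟨x, rfl⟩ := IsLocalRing.residue_surjective y
    obtain ⟨p, hp0, hpx⟩ := Algebra.IsAlgebraic.isAlgebraic (R := R) x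
    obtain ⟨n, q, hq, rfl⟩ := WfDvdMonoid.max_power_factor' hp0
      (x := Polynomial.C π) (fun h => hπ.not_isUnit (Polynomial.isUnit_C.1 h))
    have hqx : Polynomial.aeval x q = 0 := by
      rw [map_mul, map_pow, Polynomial.aeval_C] at hpx
      refine (mul_eq_zero.1 hpx).resolve_left (pow_ne_zero _ ?_)
      exact (map_ne_zero_iff _ hinj).2 hπ.ne_zero
    refine ⟨q.map (IsLocalRing.residue R), fun h0 => hq ?_, ?_⟩
    · rw [Polynomial.C_dvd_iff_dvd_coeff]
      intro i
      have h1 := congrArg (fun r => Polynomial.coeff r i) h0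
      simp only [Polynomial.coeff_map, Polynomial.coeff_zero] at h1
      rw [IsLocalRing.residue_eq_zero_iff, hπ.maximalIdeal_eq, Ideal.mem_span_singleton] at h1
      exact h1
    · rw [Polynomial.aeval_def, Polynomial.eval₂_map]
      have h2 : (algebraMap k k').comp (IsLocalRing.residue R) =
          (IsLocalRing.residue R').comp (algebraMap R R') :=
        IsLocalRing.ResidueField.map_comp_residue _
      rw [h2, ← Polynomial.hom_eval₂]
      exact (congrArg (IsLocalRing.residue R') hqx).trans (map_zero _)⟩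
  exact IsAlgClosed.algebraMap_bijective_of_isIntegral.2

theorem exists_isDVR_tensor [IsLocalHom (algebraMap R R')] [IsAlgClosed (IsLocalRing.ResidueField R)]
    (hinj : Function.Injective (algebraMap R R'))
    [Module.Finite (FractionRing R) (FractionRing R ⊗[R] R')]
    {π : R} (hπ : Irreducible π)
    (hm : IsLocalRing.maximalIdeal B = Ideal.span {algebraMap R B π})
    [IsDomain (B ⊗[R] AlgebraicClosure (FractionRing R))] :
    ∃ _ : IsDomain (B ⊗[R] R'), IsDiscreteValuationRing (B ⊗[R] R') := by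
  haveI := isAlgebraic_of_finite R R' hinj
  have hBinj := injective_of_span R B hπ hm
  haveI := flat_of_span R B hπ hm
  haveI : Module.IsTorsionFree R R' := Module.isTorsionFree_iff_algebraMap_injective.2 hinj
  let K' := FractionRing R'
  haveI : FaithfulSMul R R' := (faithfulSMul_iff_algebraMap_injective R R').2 hinj
  have hRK' : Function.Injective (algebraMap R K') := by
    rw [IsScalarTower.algebraMap_eq R R' K', RingHom.coe_comp]
    exact (IsFractionRing.injective R' K').comp hinj
  haveI : FaithfulSMul R K' := (faithfulSMul_iff_algebraMap_injective R K').2 hRK'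
  haveI : Algebra.IsAlgebraic R' K' :=
    (IsFractionRing.comap_isAlgebraic_iff (A := R') (K := K')).2 inferInstance
  haveI halgK : Algebra.IsAlgebraic R K' := Algebra.IsAlgebraic.trans R R' K'
  let F := AlgebraicClosure (FractionRing R)
  haveI : FaithfulSMul R F := (faithfulSMul_iff_algebraMap_injective R F).2 (by
    rw [IsScalarTower.algebraMap_eq R (FractionRing R) F, RingHom.coe_comp]
    exact (algebraMap (FractionRing R) F).injective.comp (IsFractionRing.injective R (FractionRing R)))
  let σ : K' →ₐ[R] F := IsAlgClosed.lift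
  let j : B ⊗[R] K' →ₐ[R] B ⊗[R] F := Algebra.TensorProduct.map (AlgHom.id R B) σ
  have hj : Function.Injective j :=
    Module.Flat.lTensor_preserves_injective_linearMap σ.toLinearMap σ.toRingHom.injective
  haveI : IsDomain (B ⊗[R] K') := hj.isDomain j
  have hfield := isField_tensor_of_isDomain R B hπ hm K' hRK' halgK
  let i : B ⊗[R] R' →ₐ[R] B ⊗[R] K' :=
    Algebra.TensorProduct.map (AlgHom.id R B) (IsScalarTower.toAlgHom R R' K')
  have hi : Function.Injective i :=
    Module.Flat.lTensor_preserves_injective_linearMap (IsScalarTower.toAlgHom R R' K').toLinearMap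
      (IsFractionRing.injective R' K')
  haveI hA : IsDomain (B ⊗[R] R') := hi.isDomain i
  refine ⟨hA, ?_⟩
  obtain ⟨ϖ, hϖ⟩ := IsDiscreteValuationRing.exists_irreducible R'
  let P : Ideal (B ⊗[R] R') := Ideal.span {(1 : B) ⊗ₜ[R] ϖ}
  have hres := residue_surjective R R' hinj
  -- every element is congruent to an element of `B`
  have hdec : ∀ z : B ⊗[R] R', ∃ b : B, z - b ⊗ₜ[R] (1 : R') ∈ P := by
    intro z
    induction z using TensorProduct.induction_on with
    | zero => exact ⟨0, by simp⟩
    | add a b ha hb =>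
      obtain ⟨c, hc⟩ := ha
      obtain ⟨d, hd⟩ := hb
      refine ⟨c + d, ?_⟩
      rw [TensorProduct.add_tmul, add_sub_add_comm]
      exact add_mem hc hd
    | tmul b x =>
      obtain ⟨t, ht⟩ := hres (IsLocalRing.residue R' x)
      obtain ⟨r, rfl⟩ := IsLocalRing.residue_surjective t
      rw [IsLocalRing.ResidueField.map_residue, ← sub_eq_zero, ← map_sub,
        IsLocalRing.residue_eq_zero_iff, hϖ.maximalIdeal_eq, Ideal.mem_span_singleton'] at ht
      obtain ⟨c, hc⟩ := ht
      refine ⟨r • b, ?_⟩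
      rw [TensorProduct.smul_tmul, ← Algebra.algebraMap_eq_smul_one, ← TensorProduct.tmul_sub]
      refine Ideal.mem_span_singleton'.2 ⟨b ⊗ₜ[R] (-c), ?_⟩
      rw [Algebra.TensorProduct.tmul_mul_tmul, mul_one, neg_mul, hc, neg_sub]
  -- the uniformizer of `R` lies in `P`
  have hπP : (algebraMap R B π) ⊗ₜ[R] (1 : R') ∈ P := by
    have h1 : algebraMap R R' π ∈ IsLocalRing.maximalIdeal R' := by
      rw [IsLocalRing.mem_maximalIdeal, mem_nonunits_iff]
      exact fun h => hπ.not_isUnit (isUnit_of_map_unit (algebraMap R R') π h)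
    rw [hϖ.maximalIdeal_eq, Ideal.mem_span_singleton'] at h1
    obtain ⟨c, hc⟩ := h1
    refine Ideal.mem_span_singleton'.2 ⟨(1 : B) ⊗ₜ[R] c, ?_⟩
    rw [Algebra.TensorProduct.tmul_mul_tmul, mul_one, hc, Algebra.algebraMap_eq_smul_one,
      Algebra.algebraMap_eq_smul_one, TensorProduct.smul_tmul]
  -- `P` is proper
  let κ := B ⧸ IsLocalRing.maximalIdeal B
  let kk := IsLocalRing.ResidueField R
  let kk' := IsLocalRing.ResidueField R'
  let e : kk ≃+* kk' := RingEquiv.ofBijective _ ⟨RingHom.injective _, hres⟩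
  let toκ : kk →+* κ := Ideal.Quotient.lift _ ((Ideal.Quotient.mk _).comp (algebraMap R B)) fun r hr => by
    rw [hπ.maximalIdeal_eq, Ideal.mem_span_singleton'] at hr
    obtain ⟨a, rfl⟩ := hr
    rw [map_mul, RingHom.comp_apply, RingHom.comp_apply,
      Ideal.Quotient.eq_zero_iff_mem.2 (hm.ge (Ideal.mem_span_singleton_self _)), mul_zero]
  let ρ : R' →ₐ[R] κ :=
    { toRingHom := toκ.comp (e.symm.toRingHom.comp (IsLocalRing.residue R'))
      commutes' := fun r => by
        have h : e.symm (IsLocalRing.residue R' (algebraMap R R' r)) = IsLocalRing.residue R r := by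
          rw [RingEquiv.symm_apply_eq]
          exact (IsLocalRing.ResidueField.map_residue _ r).symm
        show toκ (e.symm (IsLocalRing.residue R' (algebraMap R R' r))) = _
        rw [h]
        rfl }
  let χ : B ⊗[R] R' →ₐ[R] κ :=
    Algebra.TensorProduct.lift (Ideal.Quotient.mkₐ R _) ρ fun _ _ => Commute.all _ _
  have hPtop : P ≠ ⊤ := by
    intro h
    obtain ⟨c, hc⟩ := Ideal.mem_span_singleton'.1 ((Ideal.eq_top_iff_one _).1 h)
    have h1 := congrArg χ hc
    have h0 : ρ ϖ = 0 := by
      show toκ (e.symm (IsLocalRing.residue R' ϖ)) = 0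
      rw [(IsLocalRing.residue_eq_zero_iff ϖ).2 (hϖ.maximalIdeal_eq.ge (Ideal.mem_span_singleton_self _)),
        map_zero, map_zero]
    rw [map_mul, map_one, Algebra.TensorProduct.lift_tmul, map_one, h0, mul_zero, mul_zero] at h1
    exact zero_ne_one h1
  have hPmax : P.IsMaximal := by
    refine Ideal.isMaximal_iff.2 ⟨fun h => hPtop ((Ideal.eq_top_iff_one _).2 h), fun J z hPJ hz hzJ => ?_⟩
    obtain ⟨b, hb⟩ := hdec z
    have hbu : IsUnit b := by
      by_contra hbn
      have h1 : b ∈ IsLocalRing.maximalIdeal B := hbn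
      rw [hm, Ideal.mem_span_singleton'] at h1
      obtain ⟨a, rfl⟩ := h1
      refine hz ?_
      have h2 : (a * algebraMap R B π) ⊗ₜ[R] (1 : R') ∈ P := by
        rw [← one_mul (1 : R'), ← Algebra.TensorProduct.tmul_mul_tmul]
        exact P.mul_mem_left _ hπP
      simpa using add_mem hb h2
    obtain ⟨w, hw⟩ := (hbu.map (Algebra.TensorProduct.includeLeft : B →ₐ[R] B ⊗[R] R')).exists_right_inv
    rw [← hw]
    refine J.mul_mem_right _ ?_
    have := J.sub_mem hzJ (hPJ hb)
    simpa using this
  have hϖ0 : (1 : B) ⊗ₜ[R] ϖ ≠ 0 := by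
    intro h
    have h1 := Algebra.TensorProduct.includeRight_injective (A := B) (B := R') hBinj
      (h.trans (map_zero (Algebra.TensorProduct.includeRight : R' →ₐ[R] B ⊗[R] R')).symm)
    exact hϖ.ne_zero h1
  have huniq : ∀ Q : Ideal (B ⊗[R] R'), Q.IsPrime → Q ≠ ⊥ → Q = P := by
    intro Q hQ hQ0
    suffices h : (1 : B) ⊗ₜ[R] ϖ ∈ Q by
      exact (hPmax.eq_of_le hQ.ne_top ((Ideal.span_singleton_le_iff_mem _).2 h)).symm
    obtain ⟨z, hzQ, hz0⟩ := Submodule.exists_mem_ne_zero_of_ne_bot hQ0
    have hiz : i z ≠ 0 := fun h => hz0 (hi (h.trans (map_zero i).symm))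
    obtain ⟨y, hy⟩ := hfield.mul_inv_cancel hiz
    have hclear : ∀ y : B ⊗[R] K', ∃ s : R', s ≠ 0 ∧
        ∃ w, i w = y * ((1 : B) ⊗ₜ[R] algebraMap R' K' s) := by
      intro y
      induction y using TensorProduct.induction_on with
      | zero => exact ⟨1, one_ne_zero, 0, by simp⟩
      | tmul b c =>
        obtain ⟨⟨a, s⟩, hs⟩ := IsLocalization.surj (nonZeroDivisors R') c
        refine ⟨s, nonZeroDivisors.ne_zero s.2, b ⊗ₜ[R] a, ?_⟩
        rw [Algebra.TensorProduct.tmul_mul_tmul, mul_one, hs]
        rfl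
      | add a b ha hb =>
        obtain ⟨s, hs, v, hv⟩ := ha
        obtain ⟨t, ht, w, hw⟩ := hb
        refine ⟨s * t, mul_ne_zero hs ht, v * ((1 : B) ⊗ₜ[R] t) + w * ((1 : B) ⊗ₜ[R] s), ?_⟩
        rw [map_add, map_mul, map_mul, hv, hw]
        simp only [i, Algebra.TensorProduct.map_tmul, AlgHom.coe_id, id_eq,
          IsScalarTower.coe_toAlgHom', add_mul, mul_assoc, Algebra.TensorProduct.tmul_mul_tmul,
          one_mul, map_mul, mul_comm (algebraMap R' K' t)]
    obtain ⟨s, hs0, w, hw⟩ := hclear y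
    have hzw : z * w = (1 : B) ⊗ₜ[R] s := by
      apply hi
      rw [map_mul, hw, ← mul_assoc, hy, one_mul]
      rfl
    obtain ⟨n, v, rfl⟩ := IsDiscreteValuationRing.eq_unit_mul_pow_irreducible hs0 hϖ
    have h1 : (1 : B) ⊗ₜ[R] ((v : R') * ϖ ^ n) ∈ Q := hzw ▸ Q.mul_mem_right w hzQ
    have h2 : (1 : B) ⊗ₜ[R] ((v : R') * ϖ ^ n) =
        (Algebra.TensorProduct.includeRight : R' →ₐ[R] B ⊗[R] R') v * ((1 : B) ⊗ₜ[R] ϖ) ^ n := by
      rw [Algebra.TensorProduct.includeRight_apply, Algebra.TensorProduct.tmul_pow,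
        Algebra.TensorProduct.tmul_mul_tmul, one_pow, one_mul]
    rw [h2] at h1
    rcases hQ.mem_or_mem h1 with h | h
    · exact absurd (Ideal.eq_top_of_isUnit_mem _ h (v.isUnit.map
        (Algebra.TensorProduct.includeRight : R' →ₐ[R] B ⊗[R] R'))) hQ.ne_top
    · exact hQ.mem_of_pow_mem n h
  refine (IsDiscreteValuationRing.iff_pid_with_one_nonzero_prime _).2 ⟨?_, P, ⟨?_, hPmax.isPrime⟩, ?_⟩
  · refine IsPrincipalIdealRing.of_prime fun Q hQ => ?_
    by_cases hQ0 : Q = ⊥
    · subst hQ0; exact ⟨0, by simp⟩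
    · rw [huniq Q hQ hQ0]; exact ⟨_, rfl⟩
  · exact fun h => hϖ0 (Ideal.span_singleton_eq_bot.1 h)
  · rintro Q ⟨hQ0, hQ⟩
    exact huniq Q hQ hQ0

end Groth.Agent.ModelsGI95
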