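import Groth.Agent.ModelsGI95.Basic

/-!
The algebraic closure of the fraction field of `R` tensored with the local ring at a component of
the special fibre is a field.
-/

set_option autoImplicit false
set_option linter.style.haveILetI false
universe u

open CategoryTheory CategoryTheory.Limits AlgebraicGeometry
open scoped TensorProduct

namespace Groth.Agent.ModelsGI95

variable (R : Type u) [CommRing R] [IsDomain R] [IsDiscreteValuationRing R]
  (B : Type u) [CommRing B] [IsDomain B] [IsDiscreteValuationRing B] [Algebra R B]

theorem injective_of_span {π : R} (hπ : Irreducible π)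
    (hm : IsLocalRing.maximalIdeal B = Ideal.span {algebraMap R B π}) :
    Function.Injective (algebraMap R B) := by
  have hp : algebraMap R B π ≠ 0 := fun h =>
    IsDiscreteValuationRing.not_a_field B (by rw [hm, h, Ideal.span_singleton_eq_bot])
  rw [injective_iff_map_eq_zero]
  intro r hr
  by_contra h0
  obtain ⟨n, v, rfl⟩ := IsDiscreteValuationRing.eq_unit_mul_pow_irreducible h0 hπ
  rw [map_mul, map_pow] at hr
  rcases mul_eq_zero.1 hr with h | h
  · exact ((v.isUnit.map (algebraMap R B)).ne_zero) h
  · exact hp (eq_zero_of_pow_eq_zero h)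

theorem flat_of_span {π : R} (hπ : Irreducible π)
    (hm : IsLocalRing.maximalIdeal B = Ideal.span {algebraMap R B π}) : Module.Flat R B := by
  haveI : Module.IsTorsionFree R B :=
    Module.isTorsionFree_iff_algebraMap_injective.2 (injective_of_span R B hπ hm)
  infer_instance

/-- A domain, integral over the generic fibre of `B`, is a field. -/
theorem isField_tensor_of_isDomain {π : R} (hπ : Irreducible π)
    (hm : IsLocalRing.maximalIdeal B = Ideal.span {algebraMap R B π})
    (K : Type u) [Field K] [Algebra R K] (hRK : Function.Injective (algebraMap R K))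
    (halg : Algebra.IsAlgebraic R K) [IsDomain (B ⊗[R] K)] : IsField (B ⊗[R] K) := by
  refine ⟨⟨0, 1, zero_ne_one⟩, mul_comm, fun {z} hz => ?_⟩
  have hunit : IsUnit ((algebraMap R B π) ⊗ₜ[R] (1 : K)) := by
    have h1 : (algebraMap R B π) ⊗ₜ[R] (1 : K) = (1 : B) ⊗ₜ[R] algebraMap R K π := by
      rw [Algebra.algebraMap_eq_smul_one, Algebra.algebraMap_eq_smul_one, TensorProduct.smul_tmul]
    rw [h1]
    exact ((isUnit_iff_ne_zero.2 (by simpa using (map_ne_zero_iff _ hRK).2 hπ.ne_zero)).map
      (Algebra.TensorProduct.includeRight : K →ₐ[R] B ⊗[R] K))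
  have hB : ∀ b : B, b ≠ 0 → IsUnit (b ⊗ₜ[R] (1 : K)) := by
    intro b hb
    have hirr : Irreducible (algebraMap R B π) :=
      (IsDiscreteValuationRing.irreducible_iff_uniformizer _).2 hm
    obtain ⟨n, v, rfl⟩ := IsDiscreteValuationRing.eq_unit_mul_pow_irreducible hb hirr
    have h2 := (v.isUnit.map (Algebra.TensorProduct.includeLeft : B →ₐ[R] B ⊗[R] K)).mul (hunit.pow n)
    simpa [Algebra.TensorProduct.tmul_pow] using h2
  -- `B ⊗ K` is integral over `Frac B`
  let g : FractionRing B →+* B ⊗[R] K :=
    IsLocalization.lift (M := nonZeroDivisors B) (g := (Algebra.TensorProduct.includeLeft :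
      B →ₐ[R] B ⊗[R] K).toRingHom) fun b => hB _ (nonZeroDivisors.ne_zero b.2)
  letI : Algebra (FractionRing B) (B ⊗[R] K) := g.toAlgebra
  have hgB : ∀ b : B, g (algebraMap B (FractionRing B) b) = b ⊗ₜ[R] (1 : K) := fun b =>
    IsLocalization.lift_eq _ b
  have hint : ∀ z : B ⊗[R] K, IsIntegral (FractionRing B) z := by
    intro z
    induction z using TensorProduct.induction_on with
    | zero => exact isIntegral_zero
    | add a b ha hb => exact ha.add hb
    | tmul b c =>
      have hc : IsIntegral (FractionRing B) ((1 : B) ⊗ₜ[R] c) := by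
        obtain ⟨p, hp0, hpc⟩ := halg.isAlgebraic c
        refine (?_ : IsAlgebraic (FractionRing B) ((1 : B) ⊗ₜ[R] c)).isIntegral
        refine ⟨p.map ((algebraMap B (FractionRing B)).comp (algebraMap R B)), ?_, ?_⟩
        · refine (Polynomial.map_ne_zero_iff ?_).2 hp0
          rw [RingHom.coe_comp]
          exact (IsFractionRing.injective B (FractionRing B)).comp (injective_of_span R B hπ hm)
        · rw [Polynomial.aeval_def, Polynomial.eval₂_map]
          have h3 : (algebraMap (FractionRing B) (B ⊗[R] K)).comp
              ((algebraMap B (FractionRing B)).comp (algebraMap R B)) = algebraMap R (B ⊗[R] K) := by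
            ext r
            exact hgB _
          rw [h3]
          have h4 := Polynomial.aeval_algHom_apply
            (Algebra.TensorProduct.includeRight : K →ₐ[R] B ⊗[R] K) c p
          rw [hpc, map_zero] at h4
          exact h4
      have hb : IsIntegral (FractionRing B) (b ⊗ₜ[R] (1 : K)) := by
        rw [← hgB]
        exact isIntegral_algebraMap
      simpa using hb.mul hc
  haveI : Algebra.IsIntegral (FractionRing B) (B ⊗[R] K) := ⟨hint⟩
  obtain ⟨y, hy⟩ := (isField_of_isIntegral_of_isField' (Field.toIsField (FractionRing B))).mul_inv_cancel hz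
  exact ⟨y, hy⟩

theorem isField_tensor [IsAlgClosed (IsLocalRing.ResidueField R)]
    {X : Scheme.{u}} (f : X ⟶ Spec (CommRingCat.of R)) [IsProper f] [Flat f]
    {XK : Scheme.{u}} (gK : XK ⟶ X) (fK : XK ⟶ Spec (CommRingCat.of (FractionRing R)))
    (hK : IsPullback gK fK f (Spec.map (CommRingCat.ofHom (algebraMap R (FractionRing R)))))
    [Smooth fK]
    {Xs : Scheme.{u}} (gs : Xs ⟶ X) (fs : Xs ⟶ Spec (CommRingCat.of (IsLocalRing.ResidueField R)))
    (hs : IsPullback gs fs f (Spec.map (CommRingCat.ofHom (IsLocalRing.residue R))))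
    [ConnectedSpace Xs] [IsReduced Xs]
    (x : X) (e : X.presheaf.stalk x ≅ CommRingCat.of B)
    (he : e.hom.hom.comp ((X.presheaf.germ ⊤ x trivial).hom.comp (Coh.toGlobal f)) = algebraMap R B)
    (π : R) (hπ : Irreducible π)
    (hm : IsLocalRing.maximalIdeal B = Ideal.span {algebraMap R B π}) :
    IsField (AlgebraicClosure (FractionRing R) ⊗[R] B) := by
  haveI := geometricallyIntegral_generic R f gK fK hK gs fs hs
  haveI := flat_of_span R B hπ hm
  haveI := isDomain_tensor R f gK fK hK x B (injective_of_span R B hπ hm) e he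
  have hRF : Function.Injective (algebraMap R (AlgebraicClosure (FractionRing R))) := by
    rw [IsScalarTower.algebraMap_eq R (FractionRing R)]
    exact (algebraMap (FractionRing R) _).injective.comp (IsFractionRing.injective R (FractionRing R))
  haveI : Algebra.IsAlgebraic R (AlgebraicClosure (FractionRing R)) :=
    (IsFractionRing.comap_isAlgebraic_iff (A := R) (K := FractionRing R)).2 inferInstance
  exact MulEquiv.isField (isField_tensor_of_isDomain R B hπ hm _ hRF inferInstance)
    (Algebra.TensorProduct.comm R _ B).toMulEquiv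

end Groth.Agent.ModelsGI95
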